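import Groth.Agent.FlatMisc.Fibrewise
import Groth.Agent.FlatPtDesc.Basic
import Groth.Agent.MorLib.SmoothLocus
import Groth.Agent.Triage.CMBC
import Groth.Agent.S0386
import Mathlib.RingTheory.AdicCompletion.AsTensorProduct
import Mathlib.RingTheory.AdicCompletion.Algebra
import Mathlib.RingTheory.DiscreteValuationRing.Basic

/-!
# Flatness and smoothness over the completion of a smooth algebra over a discrete valuation ring

`V` is a DVR with maximal ideal `𝔪`, `A` a smooth `V`-algebra, `h : X ⟶ Spec A` proper.  The
special points of `X` are those over `V(𝔪A)`.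
-/

set_option autoImplicit false
set_option linter.style.haveILetI false
set_option linter.unusedSectionVars false
set_option backward.isDefEq.respectTransparency false

open AlgebraicGeometry CategoryTheory CategoryTheory.Limits TensorProduct IsLocalRing

namespace Groth.Agent.FlatDvrHx

universe u

/-- If a closed map sends every point to a set whose complement is closed and misses all closed
points, then every point specializes to one over the set. -/
theorem exists_specialization {W : Scheme.{u}} {R : Type u} [CommRing R] (f : W ⟶ Spec (CommRingCat.of R))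
    (hf : IsClosedMap f) {J : Ideal R} (hJ : J ≤ Ideal.jacobson ⊥) (w : W) :
    ∃ w₀, w ⤳ w₀ ∧ J ≤ (f w₀).asIdeal := by
  obtain ⟨M, hM, hle⟩ := Ideal.exists_le_maximal (f w).asIdeal (f w).2.ne_top
  let z : Spec (CommRingCat.of R) := ⟨M, hM.isPrime⟩
  have hz : z ∈ closure ({f w} : Set (Spec (CommRingCat.of R))) :=
    specializes_iff_mem_closure.1 ((PrimeSpectrum.le_iff_specializes (f w) z).1 hle)
  have h2 : z ∈ f '' closure {w} := by
    refine closure_minimal ?_ (hf _ isClosed_closure) hz
    simpa using ⟨w, subset_closure (Set.mem_singleton w), rfl⟩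
  obtain ⟨w₀, hw₀, hfw⟩ := h2
  refine ⟨w₀, specializes_iff_mem_closure.2 hw₀, ?_⟩
  rw [hfw]
  exact hJ.trans (sInf_le ⟨bot_le, hM⟩)

variable (V : Type u) [CommRing V] [IsDomain V] [IsDiscreteValuationRing V]
  (A : Type u) [CommRing A] [Algebra V A]

/-- The ideal of the special fibre. -/
noncomputable abbrev mA : Ideal A := (maximalIdeal V).map (algebraMap V A)

/-- The structure morphism of `Spec A`. -/
noncomputable abbrev gA : Spec (CommRingCat.of A) ⟶ Spec (CommRingCat.of V) :=
  Spec.map (CommRingCat.ofHom (algebraMap V A))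

theorem special_iff (a : Spec (CommRingCat.of A)) :
    mA V A ≤ a.asIdeal ↔ gA V A a = IsLocalRing.closedPoint V := by
  rw [Ideal.map_le_iff_le_comap]
  constructor
  · intro h
    exact PrimeSpectrum.ext ((IsLocalRing.maximalIdeal.isMaximal V).eq_of_le
      (Ideal.comap_ne_top _ a.2.ne_top) h).symm
  · intro h
    exact (congrArg PrimeSpectrum.asIdeal h).ge

/-- The fibre over the closed point maps to the spectrum of `A ⧸ 𝔪A`. -/
theorem exists_fiber_lift :
    ∃ a : (gA V A).fiber (IsLocalRing.closedPoint V) ⟶ Spec (CommRingCat.of (A ⧸ mA V A)),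
      a ≫ Spec.map (CommRingCat.ofHom (Ideal.Quotient.mk (mA V A))) =
        (gA V A).fiberι (IsLocalRing.closedPoint V) := by
  let ι : Spec (CommRingCat.of (V ⧸ maximalIdeal V)) ⟶ Spec (CommRingCat.of V) :=
    Spec.map (CommRingCat.ofHom (algebraMap V (V ⧸ maximalIdeal V)))
  haveI : IsClosedImmersion ι := IsClosedImmersion.spec_of_surjective _ Ideal.Quotient.mk_surjective
  let pt : Spec (CommRingCat.of (V ⧸ maximalIdeal V)) :=
    ⟨⊥, by letI : Field (V ⧸ maximalIdeal V) := Ideal.Quotient.field _; exact Ideal.isPrime_bot⟩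
  have hpt : ι pt = IsLocalRing.closedPoint V := PrimeSpectrum.ext (Ideal.mk_ker)
  obtain ⟨t, ht⟩ : ∃ t : Spec ((Spec (CommRingCat.of V)).residueField (IsLocalRing.closedPoint V)) ⟶
      Spec (CommRingCat.of (V ⧸ maximalIdeal V)),
      t ≫ ι = (Spec (CommRingCat.of V)).fromSpecResidueField (IsLocalRing.closedPoint V) :=
    hpt ▸ _root_.FlatMisc.exists_lift_fromSpecResidueField ι pt
  let e := Algebra.TensorProduct.quotIdealMapEquivTensorQuot A (maximalIdeal V)
  have hc : (gA V A).fiberι (IsLocalRing.closedPoint V) ≫ gA V A =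
      ((gA V A).fiberToSpecResidueField (IsLocalRing.closedPoint V) ≫ t) ≫ ι :=
    (pullback.condition (f := gA V A)
      (g := (Spec (CommRingCat.of V)).fromSpecResidueField (IsLocalRing.closedPoint V))).trans
      ((congrArg (_ ≫ ·) ht.symm).trans (Category.assoc _ _ _).symm)
  let L : (gA V A).fiber (IsLocalRing.closedPoint V) ⟶ pullback (gA V A) ι := pullback.lift _ _ hc
  have hL : L ≫ pullback.fst (gA V A) ι = (gA V A).fiberι (IsLocalRing.closedPoint V) :=
    pullback.lift_fst _ _ _
  refine ⟨L ≫ ((pullbackSpecIso V A (V ⧸ maximalIdeal V)).hom ≫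
      Spec.map (CommRingCat.ofHom e.toAlgHom.toRingHom)), ?_⟩
  have he : CommRingCat.ofHom (Ideal.Quotient.mk (mA V A)) ≫ CommRingCat.ofHom e.toAlgHom.toRingHom =
      CommRingCat.ofHom (algebraMap A (A ⊗[V] (V ⧸ maximalIdeal V))) := by
    ext a
    exact e.commutes a
  refine (Category.assoc _ _ _).trans (Eq.trans ?_ hL)
  congr 1
  rw [Category.assoc, ← Spec.map_comp, he, pullbackSpecIso_hom_fst']

/-- Base change along a composite is base change of the base change. -/
theorem pullback_snd_comp {P : MorphismProperty Scheme.{u}} [P.IsStableUnderBaseChange]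
    {X S T T' : Scheme.{u}} (f : X ⟶ S) (a : T' ⟶ T) (g : T ⟶ S) (hP : P (pullback.snd f g)) :
    P (pullback.snd f (a ≫ g)) :=
  MorphismProperty.of_isPullback (IsPullback.of_right
    (h₂₁ := a)
    (h₁₁ := pullback.lift (pullback.fst f (a ≫ g)) (pullback.snd f (a ≫ g) ≫ a)
      (by rw [Category.assoc]; exact pullback.condition))
    (by rw [pullback.lift_fst]; exact IsPullback.of_hasPullback f (a ≫ g))
    (pullback.lift_snd _ _ _) (IsPullback.of_hasPullback f g)) hP

variable {X : Scheme.{u}} (h : X ⟶ Spec (CommRingCat.of A))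

theorem pullback_fiber_of {P : MorphismProperty Scheme.{u}} [P.IsStableUnderBaseChange]
    (h₀ : P (pullback.snd h (Spec.map (CommRingCat.ofHom (Ideal.Quotient.mk (mA V A)))))) :
    P (pullback.snd h ((gA V A).fiberι (IsLocalRing.closedPoint V))) := by
  obtain ⟨a, ha⟩ := exists_fiber_lift V A
  rw [← ha]
  exact pullback_snd_comp h a _ h₀

variable [IsProper h] [Algebra.Smooth V A]

theorem lfp_comp : LocallyOfFinitePresentation (h ≫ gA V A) := by
  haveI : Algebra.FiniteType V A := inferInstance
  haveI : IsNoetherianRing A := Algebra.FiniteType.isNoetherianRing V A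
  haveI : LocallyOfFiniteType (gA V A) :=
    (HasRingHomProperty.Spec_iff (P := @LocallyOfFiniteType)).2 (RingHom.finiteType_algebraMap.2 ‹_›)
  exact LocallyOfFinitePresentation.iff_locallyOfFiniteType.2 inferInstance

/-- At special points, flatness over `V` and flatness of the reduction give flatness. -/
theorem flat_at_special (hV : Flat (h ≫ gA V A))
    (h₀ : Flat (pullback.snd h (Spec.map (CommRingCat.ofHom (Ideal.Quotient.mk (mA V A))))))
    (x : X) (hx : mA V A ≤ (h x).asIdeal) : (h.stalkMap x).hom.Flat := by
  haveI := lfp_comp V A h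
  haveI : LocallyOfFiniteType (gA V A) :=
    (HasRingHomProperty.Spec_iff (P := @LocallyOfFiniteType)).2
      (RingHom.finiteType_algebraMap.2 inferInstance)
  refine (_root_.FlatMisc.flat_of_flat_fibre (gA V A) h x (Flat.stalkMap _ _) ?_).2
  rw [(special_iff V A _).1 hx]
  exact pullback_fiber_of V A h h₀

/-- At special points, flatness over `V` and smoothness of the reduction give smoothness. -/
theorem smooth_at_special (hV : Flat (h ≫ gA V A))
    (h₀ : Smooth (pullback.snd h (Spec.map (CommRingCat.ofHom (Ideal.Quotient.mk (mA V A))))))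
    [LocallyOfFinitePresentation h]
    (x : X) (hx : mA V A ≤ (h x).asIdeal) : x ∈ h.smoothLocus := by
  haveI := lfp_comp V A h
  haveI : LocallyOfFiniteType (gA V A) :=
    (HasRingHomProperty.Spec_iff (P := @LocallyOfFiniteType)).2
      (RingHom.finiteType_algebraMap.2 inferInstance)
  refine _root_.FlatMisc.smooth_stalk_of_smooth_fibre (gA V A) h x (Flat.stalkMap _ _) ?_
  rw [(special_iff V A _).1 hx]
  exact pullback_fiber_of V A h h₀

/-- Flatness over a DVR is automatic outside the special fibre. -/
theorem flat_over_V_of_not_special (x : X) (hx : ¬ mA V A ≤ (h x).asIdeal) :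
    ((h ≫ gA V A).stalkMap x).hom.Flat := by
  have hne : gA V A (h x) ≠ IsLocalRing.closedPoint V := fun e => hx ((special_iff V A _).2 e)
  have hbot : ((h ≫ gA V A) x).asIdeal = ⊥ := by
    rw [Scheme.Hom.comp_apply]
    by_contra hb
    exact hne (PrimeSpectrum.ext
      (IsLocalRing.eq_maximalIdeal ((gA V A (h x)).2.isMaximal hb)))
  let p := (h ≫ gA V A) x
  have hfield : IsField ((Spec (CommRingCat.of V)).presheaf.stalk p) := by
    letI := (Spec.stalkIso (CommRingCat.of V) p).commRingCatIsoToRingEquiv
    refine MulEquiv.isField ?_ this.toMulEquiv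
    haveI : p.asIdeal.IsPrime := p.2
    have hle : p.asIdeal.primeCompl = nonZeroDivisors V := by
      ext v
      show v ∉ (p.asIdeal : Ideal V) ↔ _
      rw [mem_nonZeroDivisors_iff_ne_zero, show p.asIdeal = ⊥ from hbot]
      exact not_congr Ideal.mem_bot
    haveI : IsFractionRing V (Localization.AtPrime p.asIdeal) := by
      show IsLocalization (nonZeroDivisors V) (Localization.AtPrime p.asIdeal)
      rw [← hle]; infer_instance
    exact (IsFractionRing.toField V).toIsField
  letI := ((h ≫ gA V A).stalkMap x).hom.toAlgebra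
  letI := hfield.toField
  exact (inferInstance : Module.Flat ((Spec (CommRingCat.of V)).presheaf.stalk p) (X.presheaf.stalk x))

/-- The completion. -/
noncomputable abbrev toCompl : Spec (CommRingCat.of (AdicCompletion (mA V A) A)) ⟶ Spec (CommRingCat.of A) :=
  Spec.map (CommRingCat.ofHom (algebraMap A (AdicCompletion (mA V A) A)))

/-- The section of the completion over the special fibre. -/
noncomputable abbrev complEval :
    Spec (CommRingCat.of (A ⧸ mA V A)) ⟶ Spec (CommRingCat.of (AdicCompletion (mA V A) A)) :=
  Spec.map (CommRingCat.ofHom (AdicCompletion.evalOneₐ (mA V A)).toRingHom)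

theorem complEval_toCompl :
    complEval V A ≫ toCompl V A = Spec.map (CommRingCat.ofHom (Ideal.Quotient.mk (mA V A))) := by
  rw [← Spec.map_comp]
  congr 1

/-- A property stable under base change passes from the completion to the reduction. -/
theorem reduction_of {P : MorphismProperty Scheme.{u}} [P.IsStableUnderBaseChange]
    (hc : P (pullback.snd h (toCompl V A))) :
    P (pullback.snd h (Spec.map (CommRingCat.ofHom (Ideal.Quotient.mk (mA V A))))) := by
  rw [← complEval_toCompl]
  exact pullback_snd_comp h (complEval V A) _ hc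

theorem flat_toCompl : Flat (toCompl V A) := by
  haveI : IsNoetherianRing A := Algebra.FiniteType.isNoetherianRing V A
  exact (HasRingHomProperty.Spec_iff (P := @Flat)).2
    (RingHom.flat_algebraMap_iff.2 inferInstance)

/-- Points over the special fibre lift to the base change to the completion. -/
theorem exists_lift_special (x : X) (hx : mA V A ≤ (h x).asIdeal) :
    ∃ x' : ↥(pullback h (toCompl V A)), pullback.fst h (toCompl V A) x' = x := by
  let p : Spec (CommRingCat.of (A ⧸ mA V A)) :=
    ⟨(h x).asIdeal.map (Ideal.Quotient.mk _),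
      Ideal.map_isPrime_of_surjective Ideal.Quotient.mk_surjective (by rw [Ideal.mk_ker]; exact hx)⟩
  have hp : Spec.map (CommRingCat.ofHom (Ideal.Quotient.mk (mA V A))) p = h x := by
    apply PrimeSpectrum.ext
    show ((h x).asIdeal.map (Ideal.Quotient.mk (mA V A))).comap (Ideal.Quotient.mk (mA V A)) = _
    rw [Ideal.comap_map_of_surjective _ Ideal.Quotient.mk_surjective, ← RingHom.ker_eq_comap_bot,
      Ideal.mk_ker, sup_eq_left.2 hx]
  obtain ⟨x', hx', -⟩ := Scheme.Pullback.exists_preimage_pullback (f := h) (g := toCompl V A) x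
    (complEval V A p) (by rw [← hp, ← complEval_toCompl]; rfl)
  exact ⟨x', hx'⟩

/-- Every point of the base change to the completion specializes to a special one. -/
theorem exists_special_specialization (w : ↥(pullback h (toCompl V A))) :
    ∃ w₀, w ⤳ w₀ ∧ mA V A ≤ (h (pullback.fst h (toCompl V A) w₀)).asIdeal := by
  haveI : IsNoetherianRing A := Algebra.FiniteType.isNoetherianRing V A
  haveI : IsAdicComplete ((mA V A).map (algebraMap A (AdicCompletion (mA V A) A)))
      (AdicCompletion (mA V A) A) :=
    AdicCompletion.isAdicComplete_self _ (IsNoetherian.noetherian _)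
  obtain ⟨w₀, hw, hle⟩ := exists_specialization (pullback.snd h (toCompl V A))
    (pullback.snd h (toCompl V A)).isClosedMap
    (IsAdicComplete.le_jacobson_bot ((mA V A).map (algebraMap A (AdicCompletion (mA V A) A)))) w
  refine ⟨w₀, hw, ?_⟩
  rw [← Scheme.Hom.comp_apply, pullback.condition, Scheme.Hom.comp_apply]
  exact Ideal.map_le_iff_le_comap.1 hle

end Groth.Agent.FlatDvrHx
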